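import Groth.Agent.CSALib.FactorSet
import Groth.Agent.CSALib.BrauerRel
import Groth.Agent.CSALib.BaseChange
import Groth.Agent.CSALib.SkolemNoether
import Groth.Agent.GalDescX.Basic
import Groth.Agent.TsenLib.Basic
import Groth.Agent.TsenLib.Norm

/-!
Over a `C₁`-field a two-cocycle with values in the base field becomes a coboundary.
-/

set_option autoImplicit false
set_option backward.isDefEq.respectTransparency false

universe u

open Groth.Agent Matrix TensorProduct

namespace H9EdBr

variable {E : Type u} [Field E] {F : Type u} [Field F] [Algebra E F] [FiniteDimensional E F]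
  [IsGalois E F] (c : (F ≃ₐ[E] F) → (F ≃ₐ[E] F) → F)

open Classical in
/-- The regular projective representation of a cocycle. -/
noncomputable def regMat (σ : F ≃ₐ[E] F) : Matrix (F ≃ₐ[E] F) (F ≃ₐ[E] F) F :=
  Matrix.of fun i τ => if i = σ * τ then c σ τ else 0

theorem regMat_map (hfix : ∀ (ρ : F ≃ₐ[E] F) σ τ, ρ (c σ τ) = c σ τ) (ρ σ : F ≃ₐ[E] F) :
    (regMat c σ).map ρ = regMat c σ := by
  classical
  ext i τ
  simp only [regMat, Matrix.map_apply, Matrix.of_apply]
  split_ifs
  · exact hfix _ _ _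
  · exact map_zero ρ

open Classical in
theorem regMat_mul (hcoc : ∀ ρ σ τ, c ρ σ * c (ρ * σ) τ = c σ τ * c ρ (σ * τ)) (ρ σ : F ≃ₐ[E] F) :
    regMat c ρ * regMat c σ = c ρ σ • regMat c (ρ * σ) := by
  ext i τ
  simp only [regMat, Matrix.mul_apply, Matrix.of_apply, Matrix.smul_apply, smul_eq_mul]
  rw [Finset.sum_eq_single (σ * τ) (fun b _ hb => by simp [hb]) (fun h => absurd (Finset.mem_univ _) h)]
  by_cases h : i = ρ * σ * τ
  · subst h
    rw [if_pos (mul_assoc _ _ _), if_pos rfl, if_pos rfl, hcoc, mul_comm]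
  · rw [if_neg (by rwa [← mul_assoc]), zero_mul, if_neg h, mul_zero]

open Classical in
theorem exists_right_inverse (hcoc : ∀ ρ σ τ, c ρ σ * c (ρ * σ) τ = c σ τ * c ρ (σ * τ))
    (hne : ∀ σ τ, c σ τ ≠ 0) (σ : F ≃ₐ[E] F) :
    ∃ V : Matrix (F ≃ₐ[E] F) (F ≃ₐ[E] F) F, regMat c σ * V = 1 := by
  have h1 : regMat c 1 = c 1 1 • (1 : Matrix (F ≃ₐ[E] F) (F ≃ₐ[E] F) F) := by
    ext i τ
    simp only [regMat, Matrix.of_apply, Matrix.smul_apply, one_mul, smul_eq_mul, Matrix.one_apply]
    split_ifs with h
    · subst h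
      have := hcoc 1 1 i
      rw [one_mul, one_mul] at this
      rw [mul_one]
      exact (mul_right_cancel₀ (hne 1 i) this).symm
    · rw [mul_zero]
  refine ⟨(c σ σ⁻¹ * c 1 1)⁻¹ • regMat c σ⁻¹, ?_⟩
  rw [mul_smul_comm, regMat_mul c hcoc, mul_inv_cancel, h1, smul_smul, smul_smul,
    mul_assoc, inv_mul_cancel₀ (mul_ne_zero (hne _ _) (hne _ _)), one_smul]

theorem exists_coboundary (hC : Curves.IsCr E 1)
    (hfix : ∀ (ρ : F ≃ₐ[E] F) σ τ, ρ (c σ τ) = c σ τ)
    (hcoc : ∀ ρ σ τ, c ρ σ * c (ρ * σ) τ = c σ τ * c ρ (σ * τ)) (hne : ∀ σ τ, c σ τ ≠ 0) :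
    ∃ f : (F ≃ₐ[E] F) → Fˣ, ∀ σ τ, (f σ : F) * σ (f τ : F) = c σ τ * f (σ * τ) := by
  classical
  let G := F ≃ₐ[E] F
  choose V hV using exists_right_inverse c hcoc hne
  let U : G → GL G F := fun σ => ⟨regMat c σ, V σ, hV σ, mul_eq_one_comm.1 (hV σ)⟩
  have hU : ∀ σ τ, (U σ : Matrix G G F) * (U τ : Matrix G G F).map σ = c σ τ • (U (σ * τ) : Matrix G G F) := by
    intro σ τ
    show regMat c σ * (regMat c τ).map σ = _
    rw [regMat_map c hfix, regMat_mul c hcoc]
  -- the fixed algebra
  let A : Subalgebra E (Matrix G G F) :=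
    { carrier := {M | ∀ σ, M * (U σ : Matrix G G F) = (U σ : Matrix G G F) * M.map σ}
      mul_mem' := fun {M M'} h h' σ => by
        rw [mul_assoc, h' σ, ← mul_assoc, h σ, mul_assoc, Matrix.map_mul]
      one_mem' := fun σ => by rw [one_mul, Matrix.map_one _ (map_zero σ) (map_one σ), mul_one]
      add_mem' := fun {M M'} h h' σ => by
        rw [add_mul, h σ, h' σ, ← mul_add, Matrix.map_add _ (map_add σ)]
      zero_mem' := fun σ => by rw [zero_mul, Matrix.map_zero _ (map_zero σ), mul_zero]
      algebraMap_mem' := fun r σ => by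
        have : (algebraMap E (Matrix G G F) r).map σ = algebraMap E (Matrix G G F) r := by
          ext i j
          rw [Matrix.map_apply, Matrix.algebraMap_matrix_apply]
          split_ifs
          · exact σ.commutes r
          · exact map_zero σ
        rw [this, Algebra.commutes] }
  -- the twisted action
  letI act : DistribMulAction G (Matrix G G F) :=
    { smul := fun σ M => (U σ : Matrix G G F) * M.map σ * ((U σ)⁻¹ : GL G F).1
      one_smul := fun M => by
        show (U 1 : Matrix G G F) * M.map (1 : G) * ((U 1)⁻¹ : GL G F).1 = M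
        have h : M.map (1 : G) = M := by ext i j; rfl
        have hc1 : (U 1 : Matrix G G F) = c 1 1 • (1 : Matrix G G F) := by
          have := hU 1 1
          rw [one_mul, show (U 1 : Matrix G G F).map (1 : G) = (U 1 : Matrix G G F) from by ext i j; rfl] at this
          calc (U 1 : Matrix G G F)
              = ((U 1)⁻¹ : GL G F).1 * ((U 1 : Matrix G G F) * (U 1 : Matrix G G F)) := by
                rw [← mul_assoc, Units.inv_mul, one_mul]
            _ = c 1 1 • (1 : Matrix G G F) := by rw [this, mul_smul_comm, Units.inv_mul]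
        calc (U 1 : Matrix G G F) * M.map (1 : G) * ((U 1)⁻¹ : GL G F).1
            = M * (U 1 : Matrix G G F) * ((U 1)⁻¹ : GL G F).1 := by
              rw [h]; congr 1; rw [hc1]; simp
          _ = M := by rw [mul_assoc, Units.mul_inv, mul_one]
      mul_smul := fun σ τ M => by
        show (U (σ * τ) : Matrix G G F) * M.map (σ * τ : G) * ((U (σ * τ))⁻¹ : GL G F).1 =
          (U σ : Matrix G G F) * ((U τ : Matrix G G F) * M.map τ * ((U τ)⁻¹ : GL G F).1).map σ *
            ((U σ)⁻¹ : GL G F).1
        have hinv : ((U τ)⁻¹ : GL G F).1.map σ * (U τ : Matrix G G F).map σ = 1 := by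
          rw [← Matrix.map_mul, Units.inv_mul, Matrix.map_one _ (map_zero σ) (map_one σ)]
        have hmm : (M.map τ).map σ = M.map (σ * τ : G) := by ext i j; rfl
        set Z := (U σ : Matrix G G F) * ((U τ : Matrix G G F) * M.map τ * ((U τ)⁻¹ : GL G F).1).map σ *
            ((U σ)⁻¹ : GL G F).1 with hZ
        have h1 : Z * ((U σ : Matrix G G F) * (U τ : Matrix G G F).map σ) =
            ((U σ : Matrix G G F) * (U τ : Matrix G G F).map σ) * M.map (σ * τ : G) := by
          rw [hZ, Matrix.map_mul, Matrix.map_mul, hmm]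
          simp only [mul_assoc]
          rw [← mul_assoc ((U σ)⁻¹ : GL G F).1, Units.inv_mul, one_mul, hinv, mul_one]
        rw [hU, mul_smul_comm, smul_mul_assoc] at h1
        have h2 := smul_right_injective _ (hne σ τ) h1
        rw [← h2, mul_assoc, Units.mul_inv, mul_one]
      smul_zero := fun σ => by
        show (U σ : Matrix G G F) * (0 : Matrix G G F).map σ * _ = 0
        rw [Matrix.map_zero _ (map_zero σ), mul_zero, zero_mul]
      smul_add := fun σ M M' => by
        show (U σ : Matrix G G F) * (M + M').map σ * _ = _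
        rw [Matrix.map_add _ (map_add σ), mul_add, add_mul]
        rfl }
  letI smulI : SMul G (Matrix G G F) := act.toMulAction.toSMul
  have hsemi : ∀ (σ : G) (r : F) (M : Matrix G G F), σ • (r • M) = σ r • σ • M := by
    intro σ r M
    show (U σ : Matrix G G F) * (r • M).map σ * ((U σ)⁻¹ : GL G F).1 =
      σ r • ((U σ : Matrix G G F) * M.map σ * ((U σ)⁻¹ : GL G F).1)
    rw [show (r • M).map σ = σ r • M.map σ from by ext i j; simp, mul_smul_comm, smul_mul_assoc]
  have hmem : ∀ M, M ∈ GalDescX.fixedSubmodule hsemi ↔ M ∈ A := by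
    intro M
    constructor
    · intro h σ
      conv_lhs => rw [← h σ]
      show (U σ : Matrix G G F) * M.map σ * ((U σ)⁻¹ : GL G F).1 * _ = _
      rw [mul_assoc, Units.inv_mul, mul_one]
    · intro h σ
      show (U σ : Matrix G G F) * M.map σ * ((U σ)⁻¹ : GL G F).1 = M
      rw [← h σ, mul_assoc, Units.mul_inv, mul_one]
  let gA : A →ₐ[E] Matrix G G F := A.val
  have hfin : FiniteDimensional E A := inferInstance
  let eA : GalDescX.fixedSubmodule hsemi ≃ₗ[E] A :=
    { toFun := fun x => ⟨x.1, (hmem _).1 x.2⟩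
      invFun := fun x => ⟨x.1, (hmem _).2 x.2⟩
      map_add' := fun _ _ => rfl
      map_smul' := fun _ _ => rfl }
  let N := Fintype.card G
  have hN : N ≠ 0 := Fintype.card_ne_zero
  have hdim : Module.finrank E A = N ^ 2 := by
    rw [← eA.finrank_eq, ← Module.finrank_baseChange (R := F) (S := E) (M' := GalDescX.fixedSubmodule hsemi),
      (GalDescX.descentEquiv hsemi).finrank_eq, Module.finrank_matrix, Module.finrank_self, mul_one, sq]
  haveI : Nontrivial A := ⟨⟨0, 1, fun h => zero_ne_one (α := Matrix G G F) (congrArg Subtype.val h)⟩⟩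
  have hspan : ∀ M : Matrix G G F, M ∈ Submodule.span F (A : Set (Matrix G G F)) := by
    intro M
    exact Submodule.span_mono (fun x hx => (hmem x).1 (show x ∈ GalDescX.fixedSubmodule hsemi from hx))
      ((GalDescX.span_fixedPoints hsemi).ge (Submodule.mem_top (x := M)))
  haveI hcen : Algebra.IsCentral E A := ⟨fun z hz => by
    have hz' : (z : Matrix G G F) ∈ Subalgebra.center F (Matrix G G F) := by
      refine Subalgebra.mem_center_iff.2 fun M => ?_
      induction hspan M using Submodule.span_induction with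
      | mem x hx => exact congrArg Subtype.val (Subalgebra.mem_center_iff.1 hz ⟨x, hx⟩)
      | zero => simp
      | add x y _ _ hx hy => rw [add_mul, mul_add, hx, hy]
      | smul r x _ hx => rw [smul_mul_assoc, mul_smul_comm, hx]
    obtain ⟨r, hr⟩ := Algebra.IsCentral.out hz'
    have hr' : algebraMap F (Matrix G G F) r = (z : Matrix G G F) := hr
    have hrfix : ∀ σ : G, σ r = r := by
      intro σ
      have h := (hmem _).2 z.2 σ
      rw [← hr', Algebra.algebraMap_eq_smul_one, hsemi] at h
      have h1 : σ • (1 : Matrix G G F) = 1 := (hmem _).2 A.one_mem σ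
      rw [h1] at h
      exact smul_left_injective F (one_ne_zero : (1 : Matrix G G F) ≠ 0) h
    obtain ⟨r₀, hr₀⟩ := IntermediateField.mem_bot.1 ((IsGalois.mem_bot_iff_fixed (F := E) (E := F) r).2 hrfix)
    refine ⟨r₀, Subtype.ext ?_⟩
    show algebraMap E (Matrix G G F) r₀ = (z : Matrix G G F)
    rw [IsScalarTower.algebraMap_apply E F (Matrix G G F), hr₀, hr']⟩
  haveI hsimp : IsSimpleRing A := by
    haveI : IsSimpleRing (Matrix G G F) := inferInstance
    refine IsSimpleRing.of_eq_bot_or_eq_top fun I => ?_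
    rw [or_iff_not_imp_left]
    intro hI
    obtain ⟨x, hx, hx0⟩ : ∃ x ∈ I, x ≠ 0 := by
      by_contra h
      push Not at h
      exact hI (SetLike.ext fun y => ⟨fun hy => by simp [h y hy], fun hy => by
        rw [show y = 0 from (TwoSidedIdeal.mem_bot _).1 hy]; exact I.zero_mem⟩)
    let T : Submodule F (Matrix G G F) := Submodule.span F (Subtype.val '' (I : Set A))
    have hTl : ∀ M, ∀ z ∈ T, M * z ∈ T ∧ z * M ∈ T := by
      intro M z hz
      induction hz using Submodule.span_induction with
      | mem y hy =>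
        obtain ⟨y, hy, rfl⟩ := hy
        induction hspan M using Submodule.span_induction with
        | mem a ha =>
          exact ⟨Submodule.subset_span ⟨⟨a, ha⟩ * y, I.mul_mem_left _ _ hy, rfl⟩,
            Submodule.subset_span ⟨y * ⟨a, ha⟩, I.mul_mem_right _ _ hy, rfl⟩⟩
        | zero => simp
        | add a b _ _ ha hb =>
          rw [add_mul, mul_add]
          exact ⟨add_mem ha.1 hb.1, add_mem ha.2 hb.2⟩
        | smul r a _ ha =>
          rw [smul_mul_assoc, mul_smul_comm]
          exact ⟨T.smul_mem r ha.1, T.smul_mem r ha.2⟩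
      | zero => simp
      | add a b _ _ ha hb =>
        rw [mul_add, add_mul]
        exact ⟨add_mem ha.1 hb.1, add_mem ha.2 hb.2⟩
      | smul r a _ ha =>
        rw [mul_smul_comm, smul_mul_assoc]
        exact ⟨T.smul_mem r ha.1, T.smul_mem r ha.2⟩
    let TI : TwoSidedIdeal (Matrix G G F) := TwoSidedIdeal.mk' (T : Set (Matrix G G F)) T.zero_mem
      T.add_mem T.neg_mem (fun {a b} hb => (hTl a b hb).1) (fun {a b} ha => (hTl b a ha).2)
    have hmemT : ∀ z, z ∈ TI ↔ z ∈ T := fun z => TwoSidedIdeal.mem_mk' _ _ _ _ _ _ z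
    have hTtop : T = ⊤ := by
      rcases IsSimpleRing.simple.eq_bot_or_eq_top TI with h | h
      · exfalso
        have hxT : x.1 ∈ TI := (hmemT _).2 (Submodule.subset_span ⟨x, hx, rfl⟩)
        rw [h, TwoSidedIdeal.mem_bot] at hxT
        exact hx0 (Subtype.ext hxT)
      · rw [eq_top_iff]
        intro z _
        exact (hmemT z).1 (by rw [h]; trivial)
    let IE : Submodule E A :=
      { carrier := I
        add_mem' := I.add_mem
        zero_mem' := I.zero_mem
        smul_mem' := fun r a ha => by rw [Algebra.smul_def]; exact I.mul_mem_left _ _ ha }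
    have hIE : IE = ⊤ := by
      apply Submodule.eq_top_of_finrank_eq
      refine le_antisymm (Submodule.finrank_le _) ?_
      haveI : Module.Free E IE := Module.Free.of_divisionRing E IE
      let b := Module.finBasis E IE
      have hT' : T ≤ Submodule.span F (Set.range fun i => ((b i : A) : Matrix G G F)) := by
        rw [Submodule.span_le]
        rintro _ ⟨y, hy, rfl⟩
        have hy' := b.sum_repr ⟨y, hy⟩
        have h2 := congrArg (fun z : IE => ((z : A) : Matrix G G F)) hy'
        simp only [Submodule.coe_sum, Submodule.coe_smul, AddSubmonoidClass.coe_finsetSum] at h2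
        rw [← h2]
        refine Submodule.sum_mem _ fun i _ => ?_
        change b.repr ⟨y, hy⟩ i • ((b i : A) : Matrix G G F) ∈ _
        rw [← algebraMap_smul F (b.repr ⟨y, hy⟩ i)]
        exact Submodule.smul_mem _ _ (Submodule.subset_span ⟨i, rfl⟩)
      rw [hTtop] at hT'
      have h3 := finrank_range_le_card (R := F) fun i => ((b i : A) : Matrix G G F)
      unfold Set.finrank at h3
      rw [top_le_iff.1 hT', finrank_top, Fintype.card_fin, Module.finrank_matrix, Module.finrank_self,
        mul_one] at h3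
      rw [hdim, sq]
      exact h3
    exact SetLike.ext fun y => ⟨fun _ => trivial, fun _ => (hIE.ge (Submodule.mem_top : y ∈ (⊤ : Submodule E A)))⟩
  -- Tsen
  obtain ⟨m, hm, D, _, _, hDc, hDf, ⟨e⟩⟩ := CSALib.exists_division E A
  haveI := hDc
  haveI := hDf
  have hD1 : Module.finrank E D = 1 := TsenLib.finrank_eq_one_of_isCr_one hC
  have hbij : Function.Bijective (Algebra.ofId E D) :=
    ⟨(algebraMap E D).injective,
      (LinearMap.injective_iff_surjective_of_finrank_eq_finrank (by rw [Module.finrank_self, hD1])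
        (f := (Algebra.ofId E D).toLinearMap)).1 (algebraMap E D).injective⟩
  let ψ : A ≃ₐ[E] Matrix (Fin m) (Fin m) E := e.trans (AlgEquiv.ofBijective _ hbij).symm.mapMatrix
  have hmN : m = N := by
    have h := ψ.toLinearEquiv.finrank_eq
    rw [hdim, Module.finrank_matrix, Module.finrank_self, mul_one, Fintype.card_fin, ← sq] at h
    exact (Nat.pow_left_injective two_ne_zero h).symm
  let ee : Fin m ≃ G := (finCongr hmN).trans (Fintype.equivFin G).symm
  let RI : Matrix (Fin m) (Fin m) F ≃ₐ[F] Matrix G G F := Matrix.reindexAlgEquiv F F ee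
  let g₁ : A →ₐ[E] Matrix G G F := gA
  let g₂ : A →ₐ[E] Matrix G G F :=
    (RI.toAlgHom.restrictScalars E).comp ((Algebra.ofId E F).mapMatrix.comp ψ.toAlgHom)
  have hg₂ : ∀ (a : A) (σ : G), (g₂ a).map σ = g₂ a := by
    intro a σ
    ext i j
    simp [g₂, RI, Matrix.reindexAlgEquiv, Matrix.reindex_apply]
    exact σ.commutes _
  haveI := CSALib.isSimpleRing_baseChange E A F
  haveI := CSALib.isCentral_baseChange E A F
  let G₁ : F ⊗[E] A →ₐ[F] Matrix G G F :=
    Algebra.TensorProduct.lift (Algebra.ofId F _) g₁ fun x a => Algebra.commutes x _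
  let G₂ : F ⊗[E] A →ₐ[F] Matrix G G F :=
    Algebra.TensorProduct.lift (Algebra.ofId F _) g₂ fun x a => Algebra.commutes x _
  obtain ⟨P, hP⟩ := CSALib.skolem_noether F G₁ G₂
  have hP' : ∀ a, g₂ a = (P : Matrix G G F) * g₁ a * (P⁻¹ : GL G F).1 := by
    intro a
    have := hP (1 ⊗ₜ a)
    simpa [G₁, G₂] using this
  have hG₁ : ∀ M : Matrix G G F, ∃ t, G₁ t = M := by
    intro M
    induction hspan M using Submodule.span_induction with
    | mem x hx => exact ⟨1 ⊗ₜ ⟨x, hx⟩, by simp [G₁, g₁, gA]⟩
    | zero => exact ⟨0, map_zero _⟩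
    | add x y _ _ hx hy =>
      obtain ⟨s, rfl⟩ := hx; obtain ⟨t, rfl⟩ := hy
      exact ⟨s + t, map_add _ _ _⟩
    | smul r x _ hx => obtain ⟨s, rfl⟩ := hx; exact ⟨r • s, map_smul _ _ _⟩
  let Q : G → Matrix G G F := fun σ =>
    (P : Matrix G G F) * (U σ : Matrix G G F) * (P⁻¹ : GL G F).1.map σ
  have hPi : ∀ σ : G, (P⁻¹ : GL G F).1.map σ * (P : Matrix G G F).map σ = 1 := by
    intro σ
    rw [← Matrix.map_mul, Units.inv_mul, Matrix.map_one _ (map_zero σ) (map_one σ)]
  have hQcomm : ∀ (σ : G) (a : A), g₂ a * Q σ = Q σ * g₂ a := by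
    intro σ a
    conv_rhs => rw [← hg₂ a σ, hP', Matrix.map_mul, Matrix.map_mul]
    rw [hP']
    simp only [Q, mul_assoc]
    rw [← mul_assoc (P⁻¹ : GL G F).1 (P : Matrix G G F), Units.inv_mul, one_mul,
      ← mul_assoc (g₁ a) (U σ : Matrix G G F), show g₁ a * (U σ : Matrix G G F) =
        (U σ : Matrix G G F) * (g₁ a).map σ from a.2 σ, mul_assoc,
      ← mul_assoc ((P⁻¹ : GL G F).1.map σ) ((P : Matrix G G F).map σ), hPi, one_mul]
  have hQ : ∀ σ, ∃ f : F, Q σ = f • (1 : Matrix G G F) := by
    intro σ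
    have : Q σ ∈ Subalgebra.center F (Matrix G G F) := by
      refine Subalgebra.mem_center_iff.2 fun M => ?_
      obtain ⟨t, ht⟩ := hG₁ ((P⁻¹ : GL G F).1 * M * (P : Matrix G G F))
      have hM : M = G₂ t := by
        rw [hP t, ht]
        simp only [mul_assoc]
        rw [Units.mul_inv, mul_one, ← mul_assoc, Units.mul_inv, one_mul]
      rw [hM]
      clear hM ht
      induction t using TensorProduct.induction_on with
      | zero => simp
      | tmul r a =>
        simp only [G₂, Algebra.TensorProduct.lift_tmul]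
        rw [mul_assoc, hQcomm σ a, ← mul_assoc, Algebra.ofId_apply, Algebra.commutes, mul_assoc]
      | add s t hs ht => rw [map_add, add_mul, mul_add, hs, ht]
    obtain ⟨f, hf⟩ := Algebra.IsCentral.out this
    exact ⟨f, hf.symm.trans (Algebra.algebraMap_eq_smul_one f)⟩
  choose f hf using hQ
  have hQmul : ∀ σ τ, Q σ * (Q τ).map σ = c σ τ • Q (σ * τ) := by
    intro σ τ
    have e : ((P⁻¹ : GL G F).1.map τ).map σ = (P⁻¹ : GL G F).1.map (σ * τ : G) := by ext i j; rfl
    simp only [Q, Matrix.map_mul, e]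
    calc _ = (P : Matrix G G F) * ((U σ : Matrix G G F) * (((P⁻¹ : GL G F).1.map σ * (P : Matrix G G F).map σ) *
          (U τ : Matrix G G F).map σ)) * (P⁻¹ : GL G F).1.map (σ * τ : G) := by simp only [mul_assoc]
      _ = _ := by rw [hPi, one_mul, hU, mul_smul_comm, smul_mul_assoc]
  have hf0 : ∀ σ, f σ ≠ 0 := by
    intro σ h0
    have h := hf σ
    rw [h0, zero_smul] at h
    have h2 : Q σ * ((P : Matrix G G F).map σ * (U σ)⁻¹.1 * (P⁻¹ : GL G F).1) = 1 := by
      simp only [Q, mul_assoc]
      rw [← mul_assoc ((P⁻¹ : GL G F).1.map σ), hPi, one_mul, ← mul_assoc (U σ : Matrix G G F),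
        Units.mul_inv, one_mul, Units.mul_inv]
    rw [h, zero_mul] at h2
    exact zero_ne_one h2
  refine ⟨fun σ => Units.mk0 (f σ) (hf0 σ), fun σ τ => ?_⟩
  have h := hQmul σ τ
  rw [hf, hf, hf, show (f τ • (1 : Matrix G G F)).map σ = σ (f τ) • (1 : Matrix G G F) from by
    ext i j; simp [Matrix.one_apply, apply_ite (σ : F → F)], smul_mul_smul_comm, one_mul, smul_smul] at h
  exact smul_left_injective F (one_ne_zero : (1 : Matrix G G F) ≠ 0) h

end H9EdBr
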