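import Groth.Agent.AVRosati.ConstGrp
import Groth.Agent.SGA1Q.SigmaFinite
import Groth.Prelude.Def_NonAbH2
import Groth.Prelude.Def_ActBC
import Groth.Prelude.Def_ChGrp

/-!
The constant scheme of a finite group acting on a scheme over another base.
-/

set_option autoImplicit false
set_option linter.style.haveILetI false
set_option linter.unusedSectionVars false
set_option backward.isDefEq.respectTransparency false
set_option backward.isDefEq.respectTransparency.types false

universe u

set_option synthInstance.maxHeartbeats 200000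

open CategoryTheory CategoryTheory.Limits MonoidalCategory CartesianMonoidalCategory MonObj AlgebraicGeometry
  TopologicalSpace Groth.Agent.AVRosati

attribute [-instance] CategoryTheory.Hom.commGroup

namespace H9EdBr.ConstGrp

variable {S₀ S : Scheme.{u}} {Γ : Type u} [Group Γ]

/-- The group functor of a constant group. -/
noncomputable def F (S : Scheme.{u}) (Γ : Type u) [Group Γ] : (Over S)ᵒᵖ ⥤ GrpCat.{u} where
  obj T := GrpCat.of (LocallyConstant ↥(T.unop.left) Γ)
  map f := GrpCat.ofHom (LocallyConstant.comapMonoidHom ⟨f.unop.left, f.unop.left.continuous⟩)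

/-- The constant scheme represents it. -/
noncomputable def rep (S : Scheme.{u}) (Γ : Type u) [Group Γ] :
    (F S Γ ⋙ forget _).RepresentableBy (TwC.const S Γ) where
  homEquiv := Equiv.ofBijective ConstGrp.idx ⟨ConstGrp.idx_injective, ConstGrp.idx_surjective⟩
  homEquiv_comp f h := ConstGrp.idx_comp f h

noncomputable instance (priority := low) grpObj : GrpObj (TwC.const S₀ Γ) :=
  GrpObj.ofRepresentableBy _ (F S₀ Γ) (rep S₀ Γ)

theorem idx_mul {T : Over S₀} (a b : T ⟶ TwC.const S₀ Γ) :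
    ConstGrp.idx (a * b) = ConstGrp.idx a * ConstGrp.idx b :=
  ((yonedaGrpObjIsoOfRepresentableBy (TwC.const S₀ Γ) (F S₀ Γ) (rep S₀ Γ)).hom.app (Opposite.op T)).hom.map_mul a b

theorem isFinite_hom [Finite Γ] : IsFinite (TwC.const S₀ Γ).hom :=
  SGA1Q.isFinite_sigmaDesc _ fun _ => inferInstanceAs (IsFinite (𝟙 S₀))

variable (f : S ⟶ S₀)

/-- The index of a point of the base changed constant scheme. -/
noncomputable def ix {T : Over S} (g : T ⟶ Red.bc f (TwC.const S₀ Γ)) : LocallyConstant ↥T.left Γ :=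
  ConstGrp.idx (T := (Over.map f).obj T) (S := S₀) (((Over.mapPullbackAdj f).homEquiv T _).symm g)

theorem ix_injective {T : Over S} :
    Function.Injective (ix f : (T ⟶ Red.bc f (TwC.const S₀ Γ)) → LocallyConstant ↥T.left Γ) :=
  fun _ _ h => ((Over.mapPullbackAdj f).homEquiv T _).symm.injective
    (ConstGrp.idx_injective (T := (Over.map f).obj T) h)

theorem ix_surjective {T : Over S} :
    Function.Surjective (ix f : (T ⟶ Red.bc f (TwC.const S₀ Γ)) → LocallyConstant ↥T.left Γ) := by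
  intro a
  obtain ⟨g, hg⟩ := ConstGrp.idx_surjective (T := (Over.map f).obj T) (S := S₀) (M := Γ) a
  exact ⟨(Over.mapPullbackAdj f).homEquiv T _ g, by rw [ix, Equiv.symm_apply_apply]; exact hg⟩

theorem ix_comp {T T' : Over S} (j : T' ⟶ T) (g : T ⟶ Red.bc f (TwC.const S₀ Γ)) :
    ix f (j ≫ g) = (ix f g).comap ⟨j.left, j.left.continuous⟩ := by
  rw [ix, Adjunction.homEquiv_naturality_left_symm, ConstGrp.idx_comp]
  rfl

theorem ix_mul {T : Over S} (a b : T ⟶ Red.bc f (TwC.const S₀ Γ)) : ix f (a * b) = ix f a * ix f b := by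
  have h := AlgGrp.Action.homEquiv_mul f (((Over.mapPullbackAdj f).homEquiv T _).symm a)
    (((Over.mapPullbackAdj f).homEquiv T _).symm b)
  rw [Equiv.apply_symm_apply, Equiv.apply_symm_apply] at h
  rw [ix, ← h, Equiv.symm_apply_apply, idx_mul]
  rfl

theorem ix_one {T : Over S} : ix f (1 : T ⟶ Red.bc f (TwC.const S₀ Γ)) = 1 :=
  (MonoidHom.mk' (ix f (T := T) (Γ := Γ)) (ix_mul f)).map_one

end H9EdBr.ConstGrp

namespace H9EdBr

variable {S : Scheme.{u}} {Γ : Type u} [Group Γ] {X : Over S} (ρ : Γ → (X ⟶ X))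

/-- The cover of `T` by the pieces of a locally constant function. -/
noncomputable abbrev pieces {T : Over S} (a : LocallyConstant ↥T.left Γ) : T.left.OpenCover :=
  T.left.openCoverOfIsOpenCover (ConstGrp.piece a) (ConstGrp.iSup_piece a)

theorem pieces_compat {T : Over S} (a : LocallyConstant ↥T.left Γ) (x : T ⟶ X) (i j : Γ) :
    pullback.fst ((pieces a).f i) ((pieces a).f j) ≫ (ConstGrp.piece a i).ι ≫ x.left ≫ (ρ i).left =
      pullback.snd ((pieces a).f i) ((pieces a).f j) ≫ (ConstGrp.piece a j).ι ≫ x.left ≫ (ρ j).left := by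
  by_cases hij : i = j
  · subst hij
    exact congrArg (· ≫ (ConstGrp.piece a i).ι ≫ x.left ≫ (ρ i).left)
      ((cancel_mono (ConstGrp.piece a i).ι).1 pullback.condition)
  · haveI : IsEmpty ↥(pullback ((pieces a).f i) ((pieces a).f j)) := ⟨fun z => hij (by
      have h1 := (pullback.fst (ConstGrp.piece a i).ι (ConstGrp.piece a j).ι z).2
      have h2 := (pullback.snd (ConstGrp.piece a i).ι (ConstGrp.piece a j).ι z).2
      have h3 : (ConstGrp.piece a i).ι (pullback.fst (ConstGrp.piece a i).ι (ConstGrp.piece a j).ι z) =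
          (ConstGrp.piece a j).ι (pullback.snd (ConstGrp.piece a i).ι (ConstGrp.piece a j).ι z) := by
        rw [← Scheme.Hom.comp_apply, ← Scheme.Hom.comp_apply, pullback.condition]
      exact h1.symm.trans ((congrArg a h3).trans h2))⟩
    exact isInitialOfIsEmpty.hom_ext _ _

/-- A point moved by a locally constant family of translations. -/
noncomputable def twist {T : Over S} (a : LocallyConstant ↥T.left Γ) (x : T ⟶ X) : T ⟶ X :=
  Over.homMk ((pieces a).glueMorphisms (fun i => (ConstGrp.piece a i).ι ≫ x.left ≫ (ρ i).left)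
    (pieces_compat ρ a x)) ((pieces a).hom_ext _ _ fun i => by
      rw [Scheme.Cover.ι_glueMorphisms_assoc]
      show ((ConstGrp.piece a i).ι ≫ x.left ≫ (ρ i).left) ≫ X.hom = (ConstGrp.piece a i).ι ≫ T.hom
      rw [Category.assoc, Category.assoc, Over.w, Over.w])

/-- The inclusion of a piece. -/
noncomputable def pieceHom {T : Over S} (a : LocallyConstant ↥T.left Γ) (i : Γ) :
    Over.mk ((ConstGrp.piece a i).ι ≫ T.hom) ⟶ T := Over.homMk (ConstGrp.piece a i).ι rfl

theorem ext_pieces {T Y : Over S} (a : LocallyConstant ↥T.left Γ) {g h : T ⟶ Y}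
    (e : ∀ i, pieceHom a i ≫ g = pieceHom a i ≫ h) : g = h :=
  Over.OverMorphism.ext ((pieces a).hom_ext _ _ fun i => congrArg CommaMorphism.left (e i))

theorem pieceHom_twist {T : Over S} (a : LocallyConstant ↥T.left Γ) (x : T ⟶ X) (i : Γ) :
    pieceHom a i ≫ twist ρ a x = pieceHom a i ≫ x ≫ ρ i :=
  Over.OverMorphism.ext (Scheme.Cover.ι_glueMorphisms (pieces a) _ (pieces_compat ρ a x) i)

theorem restrict_twist {T W : Over S} (j : W ⟶ T) (a : LocallyConstant ↥T.left Γ) (x : T ⟶ X) (i : Γ)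
    (h : ∀ w, a (j.left w) = i) : j ≫ twist ρ a x = j ≫ x ≫ ρ i := by
  have hr : Set.range j.left ⊆ Set.range (ConstGrp.piece a i).ι := by
    rintro _ ⟨w, rfl⟩
    rw [Scheme.Opens.range_ι]
    exact h w
  let j' : W ⟶ Over.mk ((ConstGrp.piece a i).ι ≫ T.hom) :=
    Over.homMk (IsOpenImmersion.lift (ConstGrp.piece a i).ι j.left hr) (by
      show IsOpenImmersion.lift (ConstGrp.piece a i).ι j.left hr ≫ (ConstGrp.piece a i).ι ≫ T.hom = _
      rw [IsOpenImmersion.lift_fac_assoc, Over.w])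
  have hj : j = j' ≫ pieceHom a i := Over.OverMorphism.ext (IsOpenImmersion.lift_fac _ _ hr).symm
  rw [hj, Category.assoc, pieceHom_twist, Category.assoc]

theorem pieceHom_apply {T : Over S} (a : LocallyConstant ↥T.left Γ) (i : Γ)
    (w : (ConstGrp.piece a i : Scheme.{u})) : a ((pieceHom a i).left w) = i := w.2

theorem comp_twist {T W : Over S} (j : W ⟶ T) (a : LocallyConstant ↥T.left Γ) (x : T ⟶ X) :
    j ≫ twist ρ a x = twist ρ (a.comap ⟨j.left, j.left.continuous⟩) (j ≫ x) := by
  refine ext_pieces (a.comap ⟨j.left, j.left.continuous⟩) fun i => ?_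
  rw [pieceHom_twist, ← Category.assoc, restrict_twist ρ (pieceHom (a.comap ⟨j.left, j.left.continuous⟩) i ≫ j) a x i
    (fun w => w.2)]
  simp only [Category.assoc]

theorem twist_one (hone : ρ 1 = 𝟙 X) {T : Over S} (x : T ⟶ X) : twist ρ 1 x = x := by
  have h := restrict_twist ρ (𝟙 T) (1 : LocallyConstant ↥T.left Γ) x 1 fun _ => rfl
  rwa [Category.id_comp, Category.id_comp, hone, Category.comp_id] at h

theorem twist_mul (hmul : ∀ g h, ρ (g * h) = ρ h ≫ ρ g) {T : Over S} (a b : LocallyConstant ↥T.left Γ)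
    (x : T ⟶ X) : twist ρ (a * b) x = twist ρ a (twist ρ b x) := by
  refine ext_pieces a fun i => ?_
  rw [pieceHom_twist ρ a]
  refine ext_pieces (b.comap ⟨(pieceHom a i).left, (pieceHom a i).left.continuous⟩) fun k => ?_
  set p := pieceHom (b.comap ⟨(pieceHom a i).left, (pieceHom a i).left.continuous⟩) k
  have hb : ∀ w, b ((p ≫ pieceHom a i).left w) = k := fun w => w.2
  have hab : ∀ w, (a * b) ((p ≫ pieceHom a i).left w) = i * k := fun w =>
    congrArg₂ (· * ·) (p.left w).2 (hb w)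
  rw [← Category.assoc, restrict_twist ρ _ _ x _ hab, ← Category.assoc p, ← Category.assoc _ (twist ρ b x),
    restrict_twist ρ _ b x k hb, hmul]
  simp only [Category.assoc]

theorem twist_injective
    (hfree : ∀ (W : Over S) (x : W ⟶ X) (g h : Γ), Nonempty W.left → x ≫ ρ g = x ≫ ρ h → g = h) {T : Over S}
    {a b : LocallyConstant ↥T.left Γ} (x : T ⟶ X) (e : twist ρ a x = twist ρ b x) : a = b := by
  ext t
  let U : T.left.Opens := ConstGrp.piece a (a t) ⊓ ConstGrp.piece b (b t)
  let j : Over.mk (U.ι ≫ T.hom) ⟶ T := Over.homMk U.ι rfl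
  have h1 := restrict_twist ρ j a x (a t) fun w => w.2.1
  rw [e, restrict_twist ρ j b x (b t) fun w => w.2.2, ← Category.assoc, ← Category.assoc] at h1
  exact (hfree _ (j ≫ x) _ _ ⟨⟨t, rfl, rfl⟩⟩ h1).symm

variable {S₀ : Scheme.{u}} (f : S ⟶ S₀) (hone : ρ 1 = 𝟙 X) (hmul : ∀ g h, ρ (g * h) = ρ h ≫ ρ g)

theorem lift_twist {T : Over S} (g : T ⟶ Red.bc f (TwC.const S₀ Γ)) (x : T ⟶ X) :
    lift g x ≫ twist ρ (ConstGrp.ix f (fst (Red.bc f (TwC.const S₀ Γ)) X)) (snd _ _) =
      twist ρ (ConstGrp.ix f g) x := by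
  rw [comp_twist, lift_snd, ← ConstGrp.ix_comp, lift_fst]

/-- The action of the constant scheme. -/
noncomputable def action : AlgGrp.Action (Red.bc f (TwC.const S₀ Γ)) X where
  act := twist ρ (ConstGrp.ix f (fst _ _)) (snd _ _)
  one_act := by
    rw [comp_twist, ← ConstGrp.ix_comp, whiskerRight_fst, whiskerRight_snd]
    have h : fst (𝟙_ (Over S)) X ≫ η[Red.bc f (TwC.const S₀ Γ)] = 1 := by
      rw [Hom.one_def, toUnit_unique (fst (𝟙_ (Over S)) X) (toUnit _)]
    rw [h, ConstGrp.ix_one, twist_one ρ hone, leftUnitor_hom]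
  mul_act := by
    refine AlgGrp.Action.hom_ext_lift₃ fun T g h x => ?_
    rw [lift_whiskerRight_assoc, lift_lift_associator_hom_assoc, lift_whiskerLeft_assoc, lift_twist, lift_twist,
      lift_twist, ← Hom.mul_def, ConstGrp.ix_mul, twist_mul ρ hmul]

theorem isPseudoTorsor
    (hfree : ∀ (W : Over S) (x : W ⟶ X) (g h : Γ), Nonempty W.left → x ≫ ρ g = x ≫ ρ h → g = h)
    (htrans : ∀ (T : Over S) (x y : T ⟶ X), ∃ a : LocallyConstant ↥T.left Γ, twist ρ a x = y) :
    NonAbH1.IsPseudoTorsorSch (action ρ f hone hmul) := by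
  obtain ⟨a, ha⟩ := htrans (X ⊗ X) (snd _ _) (fst _ _)
  obtain ⟨g₀, hg₀⟩ := ConstGrp.ix_surjective f a
  refine ⟨⟨lift g₀ (snd _ _), ?_, ?_⟩⟩
  · rw [comp_lift, lift_snd]
    have key : lift (action ρ f hone hmul).act (snd _ _) ≫ g₀ = fst (Red.bc f (TwC.const S₀ Γ)) X := by
      refine ConstGrp.ix_injective f (twist_injective ρ hfree (snd _ _) ?_)
      have h1 := congrArg (lift (action ρ f hone hmul).act (snd _ _) ≫ ·) ha
      simp only [comp_twist, lift_snd, lift_fst, ← hg₀, ← ConstGrp.ix_comp] at h1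
      exact h1
    rw [key, lift_fst_snd]
  · rw [comp_lift, lift_snd]
    show lift (lift g₀ (snd X X) ≫ twist ρ _ _) _ = _
    rw [lift_twist, hg₀, ha, lift_fst_snd]

end H9EdBr
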