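import Groth.Agent.H9EdBr.ConstAction
import Groth.Agent.GalDescX.Basic
import Mathlib.AlgebraicGeometry.Sites.Etale
import Mathlib.AlgebraicGeometry.Limits
import Mathlib.RingTheory.Etale.Field

/-!
The spectrum of a finite Galois extension as a torsor under the constant group scheme of the Galois group.
-/

set_option autoImplicit false
set_option linter.style.haveILetI false
set_option backward.isDefEq.respectTransparency false
set_option backward.isDefEq.respectTransparency.types false

universe u

open CategoryTheory CategoryTheory.Limits MonoidalCategory CartesianMonoidalCategory MonObj AlgebraicGeometry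
  Groth.Agent.AVRosati TensorProduct

attribute [-instance] CategoryTheory.Hom.commGroup

namespace H9EdBr.Galois

variable (K N : Type u) [Field K] [Field N] [Algebra K N]

/-- The spectrum of the extension. -/
noncomputable abbrev X : Over (Spec (CommRingCat.of K)) :=
  Over.mk (Spec.map (CommRingCat.ofHom (algebraMap K N)))

/-- The left action of the Galois group. -/
noncomputable def ρ (σ : N ≃ₐ[K] N) : X K N ⟶ X K N :=
  Over.homMk (Spec.map (CommRingCat.ofHom (σ.symm.toRingEquiv.toRingHom))) (by
    change Spec.map _ ≫ Spec.map _ = Spec.map _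
    rw [← Spec.map_comp, ← CommRingCat.ofHom_comp]
    congr 2
    ext r
    exact σ.symm.commutes r)

theorem ρ_one : ρ K N 1 = 𝟙 _ := Over.OverMorphism.ext (Spec.map_id _)

theorem ρ_mul (g h : N ≃ₐ[K] N) : ρ K N (g * h) = ρ K N h ≫ ρ K N g := by
  refine Over.OverMorphism.ext ?_
  show Spec.map _ = Spec.map _ ≫ Spec.map _
  rw [← Spec.map_comp, ← CommRingCat.ofHom_comp]
  rfl

theorem ρ_free (W : Over (Spec (CommRingCat.of K))) (x : W ⟶ X K N) (g h : N ≃ₐ[K] N) (hW : Nonempty W.left)
    (e : x ≫ ρ K N g = x ≫ ρ K N h) : g = h := by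
  obtain ⟨w⟩ := hW
  let φ := Spec.preimage (W.left.fromSpecResidueField w ≫ x.left)
  have h1 := congrArg (fun t => W.left.fromSpecResidueField w ≫ t) (congrArg CommaMorphism.left e)
  simp only [Over.comp_left, ← Category.assoc] at h1
  rw [← Spec.map_preimage (W.left.fromSpecResidueField w ≫ x.left)] at h1
  change Spec.map φ ≫ Spec.map _ = Spec.map φ ≫ Spec.map _ at h1
  rw [← Spec.map_comp, ← Spec.map_comp] at h1
  have h2 := congrArg CommRingCat.Hom.hom (Spec.map_injective h1)
  have hs : g.symm = h.symm := AlgEquiv.ext fun n => φ.hom.injective (RingHom.congr_fun h2 n)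
  rw [← g.symm_symm, hs, h.symm_symm]

variable [FiniteDimensional K N] [IsGalois K N]

/-- The splitting of the tensor square. -/
noncomputable def split : N ⊗[K] N →+* ((N ≃ₐ[K] N) → N) :=
  Pi.ringHom fun σ => (Algebra.TensorProduct.lift (AlgHom.id K N) σ.symm.toAlgHom
    fun _ _ => Commute.all _ _).toRingHom

theorem split_tmul (a b : N) (σ : N ≃ₐ[K] N) : split K N (a ⊗ₜ b) σ = a * σ.symm b := by
  show Algebra.TensorProduct.lift (AlgHom.id K N) σ.symm.toAlgHom (fun _ _ => Commute.all _ _) (a ⊗ₜ b) = _
  rw [Algebra.TensorProduct.lift_tmul]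
  rfl

theorem split_bijective : Function.Bijective (split K N) := by
  classical
  let l : N ⊗[K] N →ₗ[N] ((N ≃ₐ[K] N) → N) :=
    { toFun := split K N
      map_add' := map_add _
      map_smul' := fun r z => by
        induction z using TensorProduct.induction_on with
        | zero => simp
        | tmul a b =>
          ext σ
          rw [smul_tmul', split_tmul, RingHom.id_apply, Pi.smul_apply, split_tmul, smul_eq_mul, smul_eq_mul,
            _root_.mul_assoc]
        | add a b ha hb => rw [smul_add, map_add, ha, hb, map_add, smul_add] }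
  have hsurj : Function.Surjective l := by
    rw [← LinearMap.range_eq_top, eq_top_iff]
    let e : ((N ≃ₐ[K] N) → N) ≃ₗ[N] ((N ≃ₐ[K] N) → N) := LinearEquiv.funCongrLeft N N (Equiv.inv _)
    have h := congrArg (Submodule.map e.toLinearMap) (Groth.Agent.GalDescX.span_conjugates K N)
    rw [Submodule.map_span, Submodule.map_top, LinearEquiv.range] at h
    rw [← h, Submodule.span_le]
    rintro _ ⟨_, ⟨x, rfl⟩, rfl⟩
    refine ⟨(1 : N) ⊗ₜ x, ?_⟩
    ext σ
    show split K N ((1 : N) ⊗ₜ x) σ = _
    rw [split_tmul, _root_.one_mul]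
    rfl
  have hd : Module.finrank N (N ⊗[K] N) = Module.finrank N ((N ≃ₐ[K] N) → N) := by
    rw [Module.finrank_baseChange, Module.finrank_pi, ← Nat.card_eq_fintype_card, IsGalois.card_aut_eq_finrank]
  exact ⟨(LinearMap.injective_iff_surjective_of_finrank_eq_finrank hd).2 hsurj, hsurj⟩

/-- The graph of the action. -/
noncomputable def graph : (∐ fun _ : N ≃ₐ[K] N => (X K N).left) ⟶ pullback (X K N).hom (X K N).hom :=
  Sigma.desc fun σ => pullback.lift (𝟙 _) (ρ K N σ).left (by rw [Category.id_comp, Over.w])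

instance : IsIso (graph K N) := by
  haveI : IsIso (Spec.map (CommRingCat.ofHom (split K N))) :=
    isIso_SpecMap_iff.2 (split_bijective K N)
  have e : graph K N = sigmaSpec (fun _ : N ≃ₐ[K] N => CommRingCat.of N) ≫
      Spec.map (CommRingCat.ofHom (split K N)) ≫ (pullbackSpecIso K N N).inv := by
    refine Sigma.hom_ext _ _ fun σ => ?_
    have hι := ι_sigmaSpec (fun _ : N ≃ₐ[K] N => CommRingCat.of N) σ
    rw [graph, Sigma.ι_desc]
    show _ = Sigma.ι (fun _ : N ≃ₐ[K] N => Spec (CommRingCat.of N)) σ ≫ _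
    rw [← Category.assoc, hι, ← Spec.map_comp_assoc, Iso.eq_comp_inv]
    refine (Iso.eq_comp_inv _).1 (pullback.hom_ext ?_ ?_)
    · rw [pullback.lift_fst, Category.assoc]
      erw [pullbackSpecIso_inv_fst]
      rw [← Spec.map_comp]
      refine (Spec.map_id _).symm.trans (congrArg Spec.map ?_)
      ext a
      exact ((split_tmul K N a 1 σ).trans (by simp)).symm
    · rw [pullback.lift_snd, Category.assoc]
      erw [pullbackSpecIso_inv_snd]
      rw [← Spec.map_comp]
      refine congrArg Spec.map ?_
      ext b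
      exact ((split_tmul K N 1 b σ).trans (_root_.one_mul _)).symm
  rw [e]
  infer_instance

theorem ρ_trans (T : Over (Spec (CommRingCat.of K))) (x y : T ⟶ X K N) :
    ∃ a : LocallyConstant ↥T.left (N ≃ₐ[K] N), twist (ρ K N) a x = y := by
  let v : T.left ⟶ ∐ fun _ : N ≃ₐ[K] N => (X K N).left :=
    pullback.lift x.left y.left (by rw [Over.w, Over.w]) ≫ inv (graph K N)
  let a : LocallyConstant ↥T.left (N ≃ₐ[K] N) :=
    (ConstGrp.fstLC (X K N).left (N ≃ₐ[K] N)).comap ⟨v, v.continuous⟩
  refine ⟨a, ext_pieces a fun i => Over.OverMorphism.ext ?_⟩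
  rw [pieceHom_twist]
  show (ConstGrp.piece a i).ι ≫ x.left ≫ (ρ K N i).left = (ConstGrp.piece a i).ι ≫ y.left
  have hr : Set.range ((ConstGrp.piece a i).ι ≫ v) ⊆ Set.range (Sigma.ι (fun _ : N ≃ₐ[K] N => (X K N).left) i) := by
    rintro _ ⟨w, rfl⟩
    exact ConstGrp.mem_range_of_fstLC w.2
  have hl := IsOpenImmersion.lift_fac (Sigma.ι (fun _ : N ≃ₐ[K] N => (X K N).left) i) _ hr
  set l := IsOpenImmersion.lift (Sigma.ι (fun _ : N ≃ₐ[K] N => (X K N).left) i) _ hr
  have hl2 : l ≫ pullback.lift (𝟙 _) (ρ K N i).left (by rw [Category.id_comp, Over.w]) =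
      (ConstGrp.piece a i).ι ≫ pullback.lift x.left y.left (by rw [Over.w, Over.w]) := by
    have h := congrArg (· ≫ graph K N) hl
    simpa only [graph, v, Category.assoc, Sigma.ι_desc, IsIso.inv_hom_id, Category.comp_id] using h
  have h1 := congrArg (· ≫ pullback.fst _ _) hl2
  have h2 := congrArg (· ≫ pullback.snd _ _) hl2
  simp only [Category.assoc, pullback.lift_fst, pullback.lift_snd, Category.comp_id] at h1 h2
  rw [← Category.assoc, ← h1, h2]

variable (k : Type u) [Field k] [Algebra k K]

/-- The torsor. -/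
noncomputable def torsor : NonAbH1.TorsorSch
    (Red.bc (Spec.map (CommRingCat.ofHom (algebraMap k K))) (TwC.const (Spec (CommRingCat.of k)) (N ≃ₐ[K] N)))
    Scheme.etalePrecoverage where
  X := X K N
  act := action (ρ K N) _ (ρ_one K N) (ρ_mul K N)
  isTorsor := by
    refine ⟨isPseudoTorsor (ρ K N) _ (ρ_one K N) (ρ_mul K N) (ρ_free K N) (ρ_trans K N),
      Presieve.singleton (X K N).hom, ?_, ?_⟩
    · rw [Scheme.etalePrecoverage, Scheme.singleton_mem_precoverage_iff]
      refine ⟨fun y => ⟨IsLocalRing.closedPoint N, Subsingleton.elim (α := PrimeSpectrum K) _ _⟩, ?_⟩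
      show Etale (Spec.map (CommRingCat.ofHom (algebraMap K N)))
      haveI : Algebra.FinitePresentation K N := Algebra.FinitePresentation.of_finiteType.1 inferInstance
      haveI : Algebra.FormallyEtale K N := Algebra.FormallyEtale.of_isSeparable K N
      exact (HasRingHomProperty.Spec_iff (P := @Etale)).2 (RingHom.etale_algebraMap.2 (⟨inferInstance, inferInstance⟩ : Algebra.Etale K N))
    · rintro T g ⟨⟩
      exact ⟨𝟙 _, Category.id_comp _⟩

end H9EdBr.Galois
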