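import Groth.Agent.H9EdBr.GaloisTorsor
import Groth.Agent.EtFound.Descent
import Mathlib.AlgebraicGeometry.Morphisms.Finite
import Mathlib.FieldTheory.IsAlgClosed.AlgebraicClosure

/-!
A descent of the spectrum of a Galois extension to a subfield rigidifies its geometric points.
-/

set_option autoImplicit false
set_option linter.style.haveILetI false
set_option backward.isDefEq.respectTransparency false
set_option backward.isDefEq.respectTransparency.types false

universe u

open CategoryTheory CategoryTheory.Limits AlgebraicGeometry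

namespace H9EdBr

/-- A morphism from the spectrum of a field into a scheme finite over a field is cut out by finitely many integral
elements. -/
theorem exists_finset_of_isFinite {L₀ Ω : Type u} [Field L₀] [Field Ω] [Algebra L₀ Ω]
    {X₀ : Over (Spec (CommRingCat.of L₀))} [IsFinite X₀.hom] (z : Spec (CommRingCat.of Ω) ⟶ X₀.left)
    (hz : z ≫ X₀.hom = Spec.map (CommRingCat.ofHom (algebraMap L₀ Ω))) :
    ∃ S : Finset Ω, (∀ x ∈ S, IsIntegral L₀ x) ∧
      ∀ τ : Ω →+* Ω, (∀ x : L₀, τ (algebraMap L₀ Ω x) = algebraMap L₀ Ω x) → (∀ x ∈ S, τ x = x) →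
        Spec.map (CommRingCat.ofHom τ) ≫ z = z := by
  classical
  haveI : IsAffine X₀.left := isAffine_of_isAffineHom X₀.hom
  let e := X₀.left.isoSpec
  let χ := Spec.preimage (e.inv ≫ X₀.hom)
  let ψ := Spec.preimage (z ≫ e.hom)
  have hψ : Spec.map ψ = z ≫ e.hom := Spec.map_preimage _
  have hχ : Spec.map χ = e.inv ≫ X₀.hom := Spec.map_preimage _
  haveI : IsFinite (Spec.map χ) := by rw [hχ]; infer_instance
  have hfin : χ.hom.Finite := (IsFinite.SpecMap_iff χ).1 inferInstance
  letI : Algebra L₀ Γ(X₀.left, ⊤) := χ.hom.toAlgebra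
  haveI : Module.Finite L₀ Γ(X₀.left, ⊤) := hfin
  have hcomp : χ ≫ ψ = CommRingCat.ofHom (algebraMap L₀ Ω) := by
    apply Spec.map_injective
    rw [Spec.map_comp, hψ, hχ, Category.assoc, Iso.hom_inv_id_assoc, hz]
  let φ : Γ(X₀.left, ⊤) →ₐ[L₀] Ω :=
    { toRingHom := ψ.hom
      commutes' := fun x => RingHom.congr_fun (congrArg CommRingCat.Hom.hom hcomp) x }
  let b := Module.finBasis L₀ Γ(X₀.left, ⊤)
  refine ⟨Finset.univ.image fun i => φ (b i), fun x hx => ?_, fun τ hτ0 hτ => ?_⟩
  · obtain ⟨i, -, rfl⟩ := Finset.mem_image.1 hx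
    exact (Algebra.IsIntegral.isIntegral (b i)).map φ
  · rw [← cancel_mono e.hom, Category.assoc, ← hψ, ← Spec.map_comp]
    congr 1
    ext a
    show τ (φ a) = φ a
    rw [← b.sum_repr a, map_sum, map_sum]
    refine Finset.sum_congr rfl fun i _ => ?_
    rw [Algebra.smul_def, map_mul, AlgHom.commutes, map_mul, hτ0, hτ _ (Finset.mem_image.2 ⟨i, Finset.mem_univ _, rfl⟩)]

/-- Rigidity. -/
theorem exists_rigid {K N L L₀ : Type u} [Field K] [Field N] [Algebra K N] [FiniteDimensional K N]
    [Field L] [Algebra K L] [Field L₀] [Algebra L₀ L] (X₀ : Over (Spec (CommRingCat.of L₀)))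
    (e : Red.bc (Spec.map (CommRingCat.ofHom (algebraMap L₀ L))) X₀ ≅
      Red.bc (Spec.map (CommRingCat.ofHom (algebraMap K L))) (Galois.X K N))
    (M Ω : Type u) [Field M] [Algebra K M] [Algebra L M] [IsScalarTower K L M] [Field Ω] [Algebra M Ω]
    [Algebra L₀ Ω] (hLΩ : ∀ x : L₀, algebraMap L₀ Ω x = algebraMap M Ω (algebraMap L M (algebraMap L₀ L x)))
    (ι : N →+* Ω) (hι : ∀ x : K, ι (algebraMap K N x) = algebraMap M Ω (algebraMap K M x)) :
    ∃ S : Finset Ω, (∀ x ∈ S, IsIntegral L₀ x) ∧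
      ∀ τ : Ω ≃ₐ[M] Ω, (∀ x ∈ S, τ x = x) → ∀ y, τ (ι y) = ι y := by
  let gL := Spec.map (CommRingCat.ofHom (algebraMap L₀ L))
  let hL := Spec.map (CommRingCat.ofHom (algebraMap K L))
  have hgL : (@Surjective ⊓ @Flat ⊓ @QuasiCompact : MorphismProperty Scheme.{u}) gL := by
    refine ⟨⟨⟨fun y => ⟨IsLocalRing.closedPoint L, Subsingleton.elim (α := PrimeSpectrum L₀) _ _⟩⟩, ?_⟩,
      inferInstance⟩
    exact (HasRingHomProperty.Spec_iff (P := @Flat)).2 (RingHom.flat_algebraMap_iff.2 inferInstance)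
  haveI : IsFinite (Galois.X K N).hom := (IsFinite.SpecMap_iff _).2 (RingHom.finite_algebraMap.2 inferInstance)
  haveI : IsFinite X₀.hom := by
    haveI := Groth.Agent.EtFound.fpqc_isFinite.{u}
    refine MorphismProperty.of_pullback_snd_of_descendsAlong (P := @IsFinite) (f := X₀.hom) (g := gL) hgL ?_
    have hw : e.hom.left ≫ pullback.snd (Galois.X K N).hom hL = pullback.snd X₀.hom gL := Over.w e.hom
    haveI : IsIso e.hom.left := (Over.forget _).map_isIso e.hom
    rw [← hw]
    infer_instance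
  let ρL : Spec (CommRingCat.of Ω) ⟶ Spec (CommRingCat.of L) :=
    Spec.map (CommRingCat.ofHom ((algebraMap M Ω).comp (algebraMap L M)))
  have hp : Spec.map (CommRingCat.ofHom ι) ≫ (Galois.X K N).hom = ρL ≫ hL := by
    show Spec.map _ ≫ Spec.map _ = Spec.map _ ≫ Spec.map _
    rw [← Spec.map_comp, ← Spec.map_comp]
    congr 1
    ext x
    exact (hι x).trans (congrArg (algebraMap M Ω) (IsScalarTower.algebraMap_apply K L M x))
  let v := pullback.lift (Spec.map (CommRingCat.ofHom ι)) ρL hp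
  let w : Spec (CommRingCat.of Ω) ⟶ pullback X₀.hom gL := v ≫ e.inv.left
  have hwsnd : w ≫ pullback.snd X₀.hom gL = ρL := by
    have h2 : e.inv.left ≫ pullback.snd X₀.hom gL = pullback.snd (Galois.X K N).hom hL := Over.w e.inv
    rw [Category.assoc, h2, pullback.lift_snd]
  let z := w ≫ pullback.fst X₀.hom gL
  have hz : z ≫ X₀.hom = Spec.map (CommRingCat.ofHom (algebraMap L₀ Ω)) := by
    rw [Category.assoc, pullback.condition, ← Category.assoc, hwsnd]
    show Spec.map _ ≫ Spec.map _ = _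
    rw [← Spec.map_comp]
    congr 1
    ext x
    exact (hLΩ x).symm
  obtain ⟨S, hS, hfix⟩ := exists_finset_of_isFinite z hz
  refine ⟨S, hS, fun τ hτ y => ?_⟩
  have hz' : Spec.map (CommRingCat.ofHom τ.toRingEquiv.toRingHom) ≫ z = z :=
    hfix τ.toRingEquiv.toRingHom (fun x => by
      rw [hLΩ]
      exact τ.commutes _) hτ
  have hρ : Spec.map (CommRingCat.ofHom τ.toRingEquiv.toRingHom) ≫ ρL = ρL := by
    rw [← Spec.map_comp]
    congr 1
    ext x
    exact τ.commutes _
  have hw' : Spec.map (CommRingCat.ofHom τ.toRingEquiv.toRingHom) ≫ w = w := by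
    refine pullback.hom_ext ?_ ?_
    · rw [Category.assoc]; exact hz'
    · rw [Category.assoc, hwsnd, hρ]
  have hv : w ≫ e.hom.left = v := by
    show (v ≫ e.inv.left) ≫ e.hom.left = v
    rw [Category.assoc, ← Over.comp_left, e.inv_hom_id]
    exact Category.comp_id v
  have h1 := congrArg (fun t => t ≫ e.hom.left ≫ pullback.fst (Galois.X K N).hom hL) hw'
  simp only [Category.assoc, reassoc_of% hv, v, pullback.lift_fst] at h1
  rw [← Spec.map_comp] at h1
  exact RingHom.congr_fun (congrArg CommRingCat.Hom.hom (Spec.map_injective h1)) y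

end H9EdBr
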