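import Groth.Agent.H9EdBr.Split
import Groth.Agent.H9EdBr.Points
import Groth.Prelude.Def_ChGrp

/-!
Splitting division algebras over an extension along which the torsors of finite constant groups descend to
fields of transcendence degree at most one.
-/

set_option autoImplicit false
set_option linter.style.haveILetI false
set_option backward.isDefEq.respectTransparency false

universe u

open CategoryTheory CategoryTheory.Limits MonoidalCategory CartesianMonoidalCategory MonObj GrpObj AlgebraicGeometry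
open scoped TensorProduct

namespace H9EdBr

theorem main (P : ∀ (K L : Type u) [Field K] [Field L] [Algebra K L], Prop)
    (k K : Type u) [Field k] [IsAlgClosed k] [CharZero k] [Field K] [Algebra k K]
    (h13 : ∀ (S : Over (Spec (CommRingCat.of k))) [GrpObj S] [IsFinite S.hom]
      (β : NonAbH1.TorsorSch (Red.bc (Spec.map (CommRingCat.ofHom (algebraMap k K))) S) Scheme.etalePrecoverage),
      ∃ (L : Type u) (_ : Field L) (_ : Algebra K L) (_ : IsGalois K L),
        P K L ∧
        ∃ (L₀ : Type u) (_ : Field L₀) (_ : Algebra k L₀) (_ : Algebra L₀ L)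
          (hc : Spec.map (CommRingCat.ofHom (algebraMap L₀ L)) ≫ Spec.map (CommRingCat.ofHom (algebraMap k L₀)) = Spec.map (CommRingCat.ofHom (algebraMap K L)) ≫ Spec.map (CommRingCat.ofHom (algebraMap k K)))
          (c₀ : NonAbH1.TorsorSch (Red.bc (Spec.map (CommRingCat.ofHom (algebraMap k L₀))) S) Scheme.etalePrecoverage),
          Algebra.trdeg k L₀ ≤ 1 ∧
          Nonempty (NonAbH1.EquivIso
            ((c₀.act.bc (Spec.map (CommRingCat.ofHom (algebraMap L₀ L)))).restrict
              (ActBC.bcCompIso (Spec.map (CommRingCat.ofHom (algebraMap L₀ L))) (Spec.map (CommRingCat.ofHom (algebraMap k L₀))) S hc).inv)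
            ((β.act.bc (Spec.map (CommRingCat.ofHom (algebraMap K L)))).restrict
              (ActBC.bcCompIso (Spec.map (CommRingCat.ofHom (algebraMap K L))) (Spec.map (CommRingCat.ofHom (algebraMap k K))) S rfl).inv)))
    (E : Type u) [Field E] [Algebra K E] [FiniteDimensional K E]
    (D : Type u) [DivisionRing D] [Algebra E D] [Algebra.IsCentral E D] [FiniteDimensional E D] :
    ∃ (L : Type u) (_ : Field L) (_ : Algebra K L) (_ : IsGalois K L),
      P K L ∧
      ∀ (M : Type u) [Field M] [Algebra K M] [Algebra E M] [Algebra L M] [IsScalarTower K E M]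
        [IsScalarTower K L M],
        ∃ n : ℕ, Nonempty ((M ⊗[E] D) ≃ₐ[M] Matrix (Fin n) (Fin n) M) := by
  obtain ⟨𝒢⟩ := exists_galData (k := k) (K := K) (E := E) (D := D)
  haveI := ConstGrp.isFinite_hom (S₀ := Spec (CommRingCat.of k)) (Γ := 𝒢.N ≃ₐ[K] 𝒢.N)
  obtain ⟨L, _, _, hgal, hP, L₀, _, _, _, hc, c₀, htr, ⟨e⟩⟩ :=
    h13 (TwC.const (Spec (CommRingCat.of k)) (𝒢.N ≃ₐ[K] 𝒢.N)) (Galois.torsor K 𝒢.N k)
  refine ⟨L, inferInstance, inferInstance, hgal, hP, ?_⟩
  intro M _ _ _ _ _ _
  let Ω := AlgebraicClosure M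
  letI : Algebra L₀ Ω := ((algebraMap M Ω).comp ((algebraMap L M).comp (algebraMap L₀ L))).toAlgebra
  letI : Algebra E Ω := ((algebraMap M Ω).comp (algebraMap E M)).toAlgebra
  haveI : FiniteDimensional E 𝒢.N := FiniteDimensional.right K E 𝒢.N
  let jN : 𝒢.N →ₐ[E] Ω := IsAlgClosed.lift
  have hj : ∀ x, jN (algebraMap E 𝒢.N x) = algebraMap M Ω (algebraMap E M x) := jN.commutes
  have hjK : ∀ x : K, jN (algebraMap K 𝒢.N x) = algebraMap M Ω (algebraMap K M x) := fun x => by
    rw [IsScalarTower.algebraMap_apply K E 𝒢.N, hj, IsScalarTower.algebraMap_apply K E M]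
  obtain ⟨S, hS, hrig⟩ := exists_rigid c₀.X e.iso M Ω (fun _ => rfl) jN.toRingHom hjK
  have hc' : ∀ x : k, algebraMap L₀ L (algebraMap k L₀ x) = algebraMap K L (algebraMap k K x) := by
    rw [← Spec.map_comp, ← Spec.map_comp] at hc
    exact RingHom.congr_fun (congrArg CommRingCat.Hom.hom (Spec.map_injective hc))
  refine split 𝒢 M L₀ Ω htr (fun x => ?_) (fun x => ⟨_, rfl⟩) jN.toRingHom hj S hS hrig
  show algebraMap M Ω (algebraMap L M (algebraMap L₀ L (algebraMap k L₀ x))) = _
  rw [hc', ← IsScalarTower.algebraMap_apply K L M]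

end H9EdBr
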