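import Groth.Agent.H9EdBr.Coboundary
import Groth.Agent.CSALib.Splitting
import Mathlib.FieldTheory.IsAlgClosed.AlgebraicClosure
import Mathlib.FieldTheory.Galois.Basic
import Mathlib.FieldTheory.SplittingField.Construction
import Mathlib.RingTheory.RootsOfUnity.AlgebraicallyClosed
import Mathlib.RingTheory.AlgebraicIndependent.TranscendenceBasis

/-!
A division algebra with a constant factor set is split wherever its Galois data descend to a field of
transcendence degree one.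
-/

set_option autoImplicit false
set_option backward.isDefEq.respectTransparency false

universe u

open Groth.Agent Matrix TensorProduct

namespace H9EdBr

/-- Finitely many integral elements lie in a finite Galois subextension. -/
theorem exists_galois_intermediate (K Ω : Type u) [Field K] [CharZero K] [Field Ω] [IsAlgClosed Ω]
    [Algebra K Ω] (S : Finset Ω) (hS : ∀ x ∈ S, IsIntegral K x) :
    ∃ F : IntermediateField K Ω, FiniteDimensional K F ∧ IsGalois K F ∧ (S : Set Ω) ⊆ F := by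
  classical
  let P : Polynomial K := ∏ x ∈ S, minpoly K x
  have hP : P ≠ 0 := Finset.prod_ne_zero_iff.2 fun x hx => minpoly.ne_zero (hS x hx)
  have hsplit : (P.map (algebraMap K Ω)).Splits := IsAlgClosed.splits _
  let F := IntermediateField.adjoin K (P.rootSet Ω)
  haveI hSF : P.IsSplittingField K F := IntermediateField.adjoin_rootSet_isSplittingField hsplit
  haveI : FiniteDimensional K F := Polynomial.IsSplittingField.finiteDimensional F P
  haveI : Normal K F := Normal.of_isSplittingField P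
  haveI : IsGalois K F := ⟨⟩
  refine ⟨F, inferInstance, inferInstance, fun x hx => IntermediateField.subset_adjoin K _ ?_⟩
  rw [Polynomial.mem_rootSet]
  refine ⟨hP, ?_⟩
  rw [map_prod]
  exact Finset.prod_eq_zero hx (minpoly.aeval K x)

/-- A transcendence degree at most one over an algebraically closed field gives a `C₁` field. -/
theorem isCr_one (k L₀ F₀ : Type u) [Field k] [IsAlgClosed k] [Field L₀] [Algebra k L₀] [Field F₀]
    [Algebra L₀ F₀] [FiniteDimensional L₀ F₀] (h : Algebra.trdeg k L₀ ≤ 1) : Curves.IsCr F₀ 1 := by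
  have hlt : Algebra.trdeg k L₀ < Cardinal.aleph0 := h.trans_lt Cardinal.one_lt_aleph0
  obtain ⟨j, hj⟩ := Cardinal.lt_aleph0.1 hlt
  have hj1 : j ≤ 1 := by
    rw [hj] at h
    exact_mod_cast h
  exact TsenLib.isCr_one_of_isCi
    (TsenLib.isCi_of_finite (TsenLib.isCi_mono hj1 (TsenLib.tsen_lang hj)))

variable {k K E D : Type u} [Field k] [IsAlgClosed k] [CharZero k] [Field K] [Algebra k K]
  [Field E] [Algebra K E] [FiniteDimensional K E]
  [DivisionRing D] [Algebra E D] [Algebra.IsCentral E D] [FiniteDimensional E D]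

variable (k K E D) in
/-- A finite Galois extension over which `D` has a factor set of constants. -/
structure GalData where
  /-- the extension -/
  N : Type u
  [field : Field N]
  [algK : Algebra K N]
  [algE : Algebra E N]
  [tower : IsScalarTower K E N]
  [fin : FiniteDimensional K N]
  [gal : IsGalois K N]
  /-- the degree -/
  n : ℕ
  n_ne : n ≠ 0
  /-- the representation -/
  g : D →ₐ[E] Matrix (Fin n) (Fin n) N
  /-- the twisting matrices -/
  w : (N ≃ₐ[E] N) → GL (Fin n) N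
  /-- the constants -/
  c : (N ≃ₐ[E] N) → (N ≃ₐ[E] N) → k
  finrank_eq : Module.finrank E D = n ^ 2
  c_ne : ∀ σ τ, c σ τ ≠ 0
  g_w : ∀ σ a, g a * (w σ : Matrix (Fin n) (Fin n) N) = (w σ : Matrix (Fin n) (Fin n) N) * (g a).map σ
  w_mul : ∀ σ τ, (w σ : Matrix (Fin n) (Fin n) N) * (w τ : Matrix (Fin n) (Fin n) N).map σ =
    algebraMap K N (algebraMap k K (c σ τ)) • (w (σ * τ) : Matrix (Fin n) (Fin n) N)

attribute [instance] GalData.field GalData.algK GalData.algE GalData.tower GalData.fin GalData.gal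

theorem exists_galData : Nonempty (GalData k K E D) := by
  classical
  haveI : CharZero K := charZero_of_injective_algebraMap (algebraMap k K).injective
  haveI : CharZero E := charZero_of_injective_algebraMap (algebraMap K E).injective
  obtain ⟨L, _, _, n, hn, hgal, hfin, ⟨φ⟩⟩ := CSALib.exists_galois_splitting E D
  haveI := hgal
  haveI := hfin
  obtain ⟨g, u, c, hdim, hc, hgu, hu⟩ := CSALib.exists_factorSet φ
  let Ω := AlgebraicClosure E
  let jL : L →ₐ[E] Ω := IsAlgClosed.lift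
  let b := Module.finBasis E L
  let bE := Module.finBasis K E
  choose s hs using fun σ : L ≃ₐ[E] L =>
    IsAlgClosed.exists_pow_nat_eq (jL ((u σ : Matrix (Fin n) (Fin n) L).det)) (Nat.pos_of_ne_zero hn.out)
  haveI : Algebra.IsAlgebraic K Ω := Algebra.IsAlgebraic.trans K E Ω
  let S : Finset Ω := Finset.univ.image (fun i => jL (b i)) ∪ Finset.univ.image s ∪
    Finset.univ.image (fun i => algebraMap E Ω (bE i))
  obtain ⟨N, hNfin, hNgal, hSN⟩ := exists_galois_intermediate K Ω S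
    fun x _ => (Algebra.IsAlgebraic.isAlgebraic x).isIntegral
  haveI := hNfin
  haveI := hNgal
  have hE : ∀ e : E, algebraMap E Ω e ∈ N := by
    intro e
    rw [← bE.sum_repr e, map_sum]
    refine sum_mem fun i _ => ?_
    rw [Algebra.smul_def, map_mul, ← IsScalarTower.algebraMap_apply]
    exact mul_mem (N.algebraMap_mem _) (hSN (by simp [S]))
  have hL : ∀ x : L, jL x ∈ N := by
    intro x
    rw [← b.sum_repr x, map_sum]
    refine sum_mem fun i _ => ?_
    rw [map_smul, Algebra.smul_def]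
    exact mul_mem (hE _) (hSN (by simp [S]))
  letI algEN : Algebra E N := ((algebraMap E Ω).codRestrict N hE).toAlgebra
  haveI : IsScalarTower K E N := IsScalarTower.of_algebraMap_eq fun x =>
    Subtype.ext (IsScalarTower.algebraMap_apply K E Ω x)
  haveI : IsScalarTower E N Ω := IsScalarTower.of_algebraMap_eq fun x => rfl
  let j : L →ₐ[E] N :=
    { toRingHom := jL.toRingHom.codRestrict N hL
      commutes' := fun e => Subtype.ext (jL.commutes e) }
  letI : Algebra L N := j.toRingHom.toAlgebra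
  haveI : IsScalarTower E L N := IsScalarTower.of_algebraMap_eq fun e => (j.commutes e).symm
  let r : (N ≃ₐ[E] N) → (L ≃ₐ[E] L) := fun σ => σ.restrictNormal L
  have hr : ∀ σ (x : L), σ (j x) = j (r σ x) := fun σ x => (σ.restrictNormal_commutes L x).symm
  have hrmul : ∀ σ τ, r (σ * τ) = r σ * r τ := by
    intro σ τ
    refine AlgEquiv.ext fun x => j.toRingHom.injective ?_
    show j (r (σ * τ) x) = j (r σ (r τ x))
    rw [← hr, ← hr, ← hr]
    rfl
  let sN : (L ≃ₐ[E] L) → N := fun σ => ⟨s σ, hSN (by simp [S])⟩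
  have hsN : ∀ σ, sN σ ^ n = j ((u σ : Matrix (Fin n) (Fin n) L).det) := fun σ => Subtype.ext (hs σ)
  have hdet : ∀ σ, (u σ : Matrix (Fin n) (Fin n) L).det ≠ 0 := fun σ =>
    ((Matrix.isUnit_iff_isUnit_det _).1 (u σ).isUnit).ne_zero
  have hs0 : ∀ σ, sN σ ≠ 0 := by
    intro σ h
    have := hsN σ
    rw [h, zero_pow hn.out] at this
    exact hdet σ (j.toRingHom.injective (by rw [map_zero]; exact this.symm))
  let JM := j.mapMatrix (m := Fin n)
  have hJM : ∀ (σ : N ≃ₐ[E] N) (M : Matrix (Fin n) (Fin n) L), (JM M).map σ = JM (M.map (r σ)) := by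
    intro σ M
    ext p q : 1
    exact hr σ (M p q)
  have hJsmul : ∀ (x : L) (M : Matrix (Fin n) (Fin n) L), JM (x • M) = j x • JM M := by
    intro x M
    ext p q : 1
    exact map_mul j x (M p q)
  let w : (N ≃ₐ[E] N) → GL (Fin n) N := fun σ =>
    Matrix.GeneralLinearGroup.scalar (Fin n) (Units.mk0 (sN (r σ)) (hs0 _))⁻¹ *
      Units.map JM.toRingHom.toMonoidHom (u (r σ))
  have hw : ∀ σ, (w σ : Matrix (Fin n) (Fin n) N) = (sN (r σ))⁻¹ • JM (u (r σ)) := by
    intro σ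
    simp [w, Matrix.GeneralLinearGroup.scalar, ← Matrix.smul_eq_diagonal_mul]
  let c' : (N ≃ₐ[E] N) → (N ≃ₐ[E] N) → N := fun σ τ =>
    j (c (r σ) (r τ)) * (sN (r σ))⁻¹ * (σ (sN (r τ)))⁻¹ * sN (r (σ * τ))
  have hw_mul : ∀ σ τ, (w σ : Matrix (Fin n) (Fin n) N) * (w τ : Matrix (Fin n) (Fin n) N).map σ =
      c' σ τ • (w (σ * τ) : Matrix (Fin n) (Fin n) N) := by
    intro σ τ
    rw [hw, hw, hw, show ((sN (r τ))⁻¹ • JM (u (r τ))).map σ = (σ (sN (r τ)))⁻¹ • (JM (u (r τ))).map σ from by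
      ext p q; simp [map_inv₀], hJM, smul_mul_smul_comm, ← map_mul, hu, hrmul, hJsmul,
      smul_smul, smul_smul]
    congr 1
    simp only [c', hrmul]
    field_simp [hs0]
  have hpow : ∀ σ τ, c' σ τ ^ n = 1 := by
    intro σ τ
    have h := congrArg (fun M : Matrix (Fin n) (Fin n) L => M.det) (hu (r σ) (r τ))
    simp only [Matrix.det_mul, Matrix.det_smul, Fintype.card_fin] at h
    rw [show (u (r τ) : Matrix (Fin n) (Fin n) L).map (r σ) =
      (r σ).toRingEquiv.toRingHom.mapMatrix (u (r τ) : Matrix (Fin n) (Fin n) L) from rfl,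
      ← RingHom.map_det] at h
    change (u (r σ) : Matrix (Fin n) (Fin n) L).det * r σ ((u (r τ) : Matrix (Fin n) (Fin n) L).det) = _ at h
    have h' := congrArg j h
    rw [map_mul, map_mul, map_pow, ← hr, ← hsN, ← hsN, ← hsN, map_pow, ← hrmul] at h'
    simp only [c', mul_pow, inv_pow]
    have h1 : sN (r σ) ^ n ≠ 0 := pow_ne_zero _ (hs0 _)
    have h2 : σ (sN (r τ)) ^ n ≠ 0 := pow_ne_zero _ (by simpa using hs0 (r τ))
    field_simp
    linear_combination -h'
  haveI : NeZero (n : k) := ⟨Nat.cast_ne_zero.2 hn.out⟩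
  obtain ⟨ζ, hζ⟩ := HasEnoughRootsOfUnity.exists_primitiveRoot k n
  have hζN : IsPrimitiveRoot (algebraMap K N (algebraMap k K ζ)) n :=
    (hζ.map_of_injective (algebraMap k K).injective).map_of_injective (algebraMap K N).injective
  choose e he hce using fun σ τ => hζN.eq_pow_of_pow_eq_one (hpow σ τ)
  refine ⟨{
    N := N
    n := n
    n_ne := hn.out
    g := JM.restrictScalars E |>.comp g
    w := w
    c := fun σ τ => ζ ^ e σ τ
    finrank_eq := hdim
    c_ne := fun σ τ => pow_ne_zero _ (hζ.ne_zero hn.out)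
    g_w := fun σ a => ?_
    w_mul := fun σ τ => ?_ }⟩
  · show JM (g a) * (w σ : Matrix (Fin n) (Fin n) N) = (w σ : Matrix (Fin n) (Fin n) N) * (JM (g a)).map σ
    rw [hw, hJM, mul_smul_comm, smul_mul_assoc, ← map_mul, ← map_mul, hgu]
  · rw [map_pow, map_pow, hce, hw_mul]

set_option maxHeartbeats 1000000 in
/-- Splitting over `M`. -/
theorem split (𝒢 : GalData k K E D) (M : Type u) [Field M] [Algebra K M] [Algebra E M]
    [IsScalarTower K E M] (L₀ : Type u) [Field L₀] [Algebra k L₀] (Ω : Type u) [Field Ω] [IsAlgClosed Ω]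
    [Algebra M Ω] [Algebra.IsAlgebraic M Ω] [Algebra L₀ Ω] (hL₀ : Algebra.trdeg k L₀ ≤ 1)
    (hk : ∀ x : k, algebraMap L₀ Ω (algebraMap k L₀ x) = algebraMap M Ω (algebraMap K M (algebraMap k K x)))
    (hL₀M : ∀ x : L₀, ∃ m : M, algebraMap M Ω m = algebraMap L₀ Ω x)
    (ι : 𝒢.N →+* Ω) (hι : ∀ e, ι (algebraMap E 𝒢.N e) = algebraMap M Ω (algebraMap E M e))
    (S : Finset Ω) (hS : ∀ x ∈ S, IsIntegral L₀ x)
    (hrig : ∀ τ : Ω ≃ₐ[M] Ω, (∀ x ∈ S, τ x = x) → ∀ y, τ (ι y) = ι y) :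
    ∃ n : ℕ, Nonempty ((M ⊗[E] D) ≃ₐ[M] Matrix (Fin n) (Fin n) M) := by
  classical
  haveI : CharZero K := charZero_of_injective_algebraMap (algebraMap k K).injective
  haveI : CharZero E := charZero_of_injective_algebraMap (algebraMap K E).injective
  haveI : CharZero M := charZero_of_injective_algebraMap (algebraMap K M).injective
  haveI : CharZero L₀ := charZero_of_injective_algebraMap (algebraMap k L₀).injective
  obtain ⟨F, hFfin, hFgal, hSF⟩ := exists_galois_intermediate L₀ Ω S hS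
  haveI := hFfin
  haveI := hFgal
  haveI : FiniteDimensional E 𝒢.N := FiniteDimensional.right K E 𝒢.N
  haveI : IsGalois E 𝒢.N := IsGalois.tower_top_of_isGalois K E 𝒢.N
  let bN := Module.finBasis E 𝒢.N
  let bF := Module.finBasis L₀ F
  obtain ⟨K', hK'fin, hK'gal, hK'⟩ := exists_galois_intermediate M Ω
    (Finset.univ.image (fun i => ι (bN i)) ∪ Finset.univ.image (fun i => (bF i : Ω)))
    fun x _ => (Algebra.IsAlgebraic.isAlgebraic x).isIntegral
  haveI := hK'fin
  haveI := hK'gal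
  have hME : ∀ e : E, algebraMap M Ω (algebraMap E M e) ∈ K' := fun e => K'.algebraMap_mem _
  have hιK : ∀ y, ι y ∈ K' := by
    intro y
    rw [← bN.sum_repr y, map_sum]
    refine sum_mem fun i _ => ?_
    rw [Algebra.smul_def, map_mul, hι]
    exact mul_mem (hME _) (hK' (by simp))
  have hLK : ∀ x : L₀, algebraMap L₀ Ω x ∈ K' := by
    intro x
    obtain ⟨m, hm⟩ := hL₀M x
    rw [← hm]
    exact K'.algebraMap_mem m
  have hFK : ∀ y : F, (y : Ω) ∈ K' := by
    intro y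
    have h1 := congrArg (fun z : F => (z : Ω)) (bF.sum_repr y)
    simp only [AddSubmonoidClass.coe_finsetSum] at h1
    rw [← h1]
    refine sum_mem fun i _ => ?_
    rw [IntermediateField.coe_smul, Algebra.smul_def]
    exact mul_mem (hLK _) (hK' (by simp))
  letI algEK : Algebra E K' := ((algebraMap M K').comp (algebraMap E M)).toAlgebra
  haveI : IsScalarTower E M K' := IsScalarTower.of_algebraMap_eq fun _ => rfl
  letI algNK : Algebra 𝒢.N K' := (ι.codRestrict K' hιK).toAlgebra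
  haveI : IsScalarTower E 𝒢.N K' := IsScalarTower.of_algebraMap_eq fun e => Subtype.ext (hι e).symm
  letI algLK : Algebra L₀ K' := ((algebraMap L₀ Ω).codRestrict K' hLK).toAlgebra
  letI algFK : Algebra F K' := ((algebraMap F Ω).codRestrict K' hFK).toAlgebra
  haveI : IsScalarTower L₀ F K' := IsScalarTower.of_algebraMap_eq fun x => Subtype.ext rfl
  -- restrictions
  have hfixL : ∀ (σ : K' ≃ₐ[M] K') (x : L₀), σ (algebraMap L₀ K' x) = algebraMap L₀ K' x := by
    intro σ x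
    obtain ⟨m, hm⟩ := hL₀M x
    have : algebraMap L₀ K' x = algebraMap M K' m := Subtype.ext hm.symm
    rw [this, σ.commutes]
  let toL : (K' ≃ₐ[M] K') → (K' ≃ₐ[L₀] K') := fun σ => AlgEquiv.ofRingEquiv (f := σ.toRingEquiv) (hfixL σ)
  let rF : (K' ≃ₐ[M] K') → (F ≃ₐ[L₀] F) := fun σ => (toL σ).restrictNormal F
  let rN : (K' ≃ₐ[M] K') → (𝒢.N ≃ₐ[E] 𝒢.N) := fun σ => (σ.restrictScalars E).restrictNormal 𝒢.N
  have hrF : ∀ σ (y : F), σ (algebraMap F K' y) = algebraMap F K' (rF σ y) := fun σ y =>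
    ((toL σ).restrictNormal_commutes F y).symm
  have hrN : ∀ σ (y : 𝒢.N), σ (algebraMap 𝒢.N K' y) = algebraMap 𝒢.N K' (rN σ y) := fun σ y =>
    ((σ.restrictScalars E).restrictNormal_commutes 𝒢.N y).symm
  have hrFmul : ∀ σ τ, rF (σ * τ) = rF σ * rF τ := fun σ τ => AlgEquiv.ext fun y => (algebraMap F K').injective (by
    rw [AlgEquiv.mul_apply, ← hrF, ← hrF, ← hrF]; rfl)
  have hrNmul : ∀ σ τ, rN (σ * τ) = rN σ * rN τ := fun σ τ => AlgEquiv.ext fun y => (algebraMap 𝒢.N K').injective (by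
    rw [AlgEquiv.mul_apply, ← hrN, ← hrN, ← hrN]; rfl)
  let RF : (K' ≃ₐ[M] K') →* (F ≃ₐ[L₀] F) := MonoidHom.mk' rF hrFmul
  let RN : (K' ≃ₐ[M] K') →* (𝒢.N ≃ₐ[E] 𝒢.N) := MonoidHom.mk' rN hrNmul
  haveI : Normal M Ω := normal_iff.2 fun x =>
    ⟨(Algebra.IsAlgebraic.isAlgebraic x).isIntegral, IsAlgClosed.splits _⟩
  have hker : ∀ σ, RF σ = 1 → RN σ = 1 := by
    intro σ hσ
    let τ : Ω ≃ₐ[M] Ω := σ.liftNormal Ω
    have hτ : ∀ x : K', τ (x : Ω) = ((σ x : K') : Ω) := fun x => σ.liftNormal_commutes Ω x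
    have h1 : ∀ x ∈ S, τ x = x := by
      intro x hx
      have h2 := hτ (algebraMap F K' ⟨x, hSF hx⟩)
      rw [hrF, show rF σ = 1 from hσ] at h2
      exact h2
    refine AlgEquiv.ext fun y => (algebraMap 𝒢.N K').injective ?_
    change algebraMap 𝒢.N K' (rN σ y) = algebraMap 𝒢.N K' y
    rw [← hrN]
    apply Subtype.ext
    rw [← hτ]
    exact hrig τ h1 y
  let H := RF.range
  let F₀ := IntermediateField.fixedField H
  have hlift : ∀ ρ : F ≃ₐ[F₀] F, ∃ σ, RF σ = ρ.restrictScalars L₀ := by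
    intro ρ
    have : ρ.restrictScalars L₀ ∈ IntermediateField.fixingSubgroup F₀ := fun x => ρ.commutes x
    rw [IntermediateField.fixingSubgroup_fixedField] at this
    exact this
  choose lift hlift using hlift
  let θ : (F ≃ₐ[F₀] F) → (𝒢.N ≃ₐ[E] 𝒢.N) := fun ρ => RN (lift ρ)
  have hθ : ∀ σ ρ, RF σ = ρ.restrictScalars L₀ → θ ρ = RN σ := by
    intro σ ρ h
    have : RF (σ⁻¹ * lift ρ) = 1 := by rw [map_mul, map_inv, h, hlift, inv_mul_cancel]
    have h2 := hker _ this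
    rw [map_mul, map_inv, inv_mul_eq_one] at h2
    exact h2.symm
  have hθmul : ∀ ρ ρ', θ (ρ * ρ') = θ ρ * θ ρ' := by
    intro ρ ρ'
    rw [hθ (lift ρ * lift ρ') (ρ * ρ') (by rw [map_mul, hlift, hlift]; rfl), map_mul]
  -- the constants form a cocycle
  let cN : (𝒢.N ≃ₐ[E] 𝒢.N) → (𝒢.N ≃ₐ[E] 𝒢.N) → 𝒢.N := fun σ τ =>
    algebraMap K 𝒢.N (algebraMap k K (𝒢.c σ τ))
  have hcfix : ∀ (ρ : 𝒢.N ≃ₐ[E] 𝒢.N) σ τ, ρ (cN σ τ) = cN σ τ := by
    intro ρ σ τ
    simp only [cN]
    rw [IsScalarTower.algebraMap_apply K E 𝒢.N, AlgEquiv.commutes]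
  have hccoc : ∀ ρ σ τ, 𝒢.c ρ σ * 𝒢.c (ρ * σ) τ = 𝒢.c σ τ * 𝒢.c ρ (σ * τ) := by
    intro ρ σ τ
    apply (algebraMap k K).injective
    apply (algebraMap K 𝒢.N).injective
    simp only [map_mul]
    let W := fun π => (𝒢.w π : Matrix (Fin 𝒢.n) (Fin 𝒢.n) 𝒢.N)
    have hW : ∀ α β, W α * (W β).map α = cN α β • W (α * β) := 𝒢.w_mul
    have e1 : ((W τ).map σ).map ρ = (W τ).map (ρ * σ : 𝒢.N ≃ₐ[E] 𝒢.N) := by ext i j; rfl
    have e2 : (cN σ τ • W (σ * τ)).map ρ = cN σ τ • (W (σ * τ)).map ρ := by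
      ext i j
      simp only [Matrix.map_apply, Matrix.smul_apply, smul_eq_mul, map_mul, hcfix]
    have key : W ρ * (W σ * (W τ).map σ).map ρ = (cN ρ σ * cN (ρ * σ) τ) • W (ρ * σ * τ) := by
      rw [Matrix.map_mul, e1, ← mul_assoc, hW, smul_mul_assoc, hW, smul_smul]
    rw [hW, e2, mul_smul_comm, hW, smul_smul, mul_assoc ρ σ τ] at key
    haveI : Nonempty (Fin 𝒢.n) := ⟨⟨0, Nat.pos_of_ne_zero 𝒢.n_ne⟩⟩
    have hne : W (ρ * (σ * τ)) ≠ 0 := Units.ne_zero _
    exact (smul_left_injective 𝒢.N hne key).symm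
  haveI : IsScalarTower L₀ F₀ F := inferInstance
  haveI : FiniteDimensional F₀ F := FiniteDimensional.right L₀ F₀ F
  haveI : IsGalois F₀ F := IsGalois.tower_top_of_isGalois L₀ F₀ F
  haveI : FiniteDimensional L₀ F₀ := FiniteDimensional.left L₀ F₀ F
  let cF : (F ≃ₐ[F₀] F) → (F ≃ₐ[F₀] F) → F := fun ρ ρ' =>
    algebraMap L₀ F (algebraMap k L₀ (𝒢.c (θ ρ) (θ ρ')))
  obtain ⟨f, hf⟩ := exists_coboundary cF (isCr_one k L₀ F₀ hL₀)
    (fun ρ σ τ => by
      simp only [cF]
      rw [IsScalarTower.algebraMap_apply L₀ F₀ F, AlgEquiv.commutes])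
    (fun ρ σ τ => by simp only [cF, hθmul, ← map_mul, hccoc])
    (fun σ τ => by simp only [cF, ne_eq, map_eq_zero]; exact 𝒢.c_ne _ _)
  -- the base changed algebra
  haveI := CSALib.isSimpleRing_baseChange E D M
  haveI := CSALib.isCentral_baseChange E D M
  let ιK : 𝒢.N →ₐ[E] K' := IsScalarTower.toAlgHom E 𝒢.N K'
  let JK := ιK.mapMatrix (m := Fin 𝒢.n)
  let g' : M ⊗[E] D →ₐ[M] Matrix (Fin 𝒢.n) (Fin 𝒢.n) K' :=
    Algebra.TensorProduct.lift (Algebra.ofId M _) (JK.comp 𝒢.g) fun x a => Algebra.commutes x _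
  have hJK : ∀ (σ : K' ≃ₐ[M] K') (A : Matrix (Fin 𝒢.n) (Fin 𝒢.n) 𝒢.N), (JK A).map σ = JK (A.map (rN σ)) := by
    intro σ A
    ext i j : 1
    exact hrN σ (A i j)
  have toF₀ : ∀ (σ : K' ≃ₐ[M] K'), ∀ x : F₀, rF σ (x : F) = x := fun σ x => x.2 ⟨RF σ, σ, rfl⟩
  let rF₀ : (K' ≃ₐ[M] K') → (F ≃ₐ[F₀] F) := fun (σ : K' ≃ₐ[M] K') =>
    AlgEquiv.ofRingEquiv (f := (rF σ).toRingEquiv) (toF₀ σ)
  have hrF₀ : ∀ σ, RF σ = (rF₀ σ).restrictScalars L₀ := fun σ => AlgEquiv.ext fun x => rfl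
  have hrF₀mul : ∀ σ τ, rF₀ (σ * τ) = rF₀ σ * rF₀ τ := fun σ τ => AlgEquiv.ext fun x =>
    DFunLike.congr_fun (hrFmul σ τ) x
  have hrF₀app : ∀ (σ : K' ≃ₐ[M] K') (y : F), rF σ y = rF₀ σ y := fun σ y => rfl
  clear_value rF₀
  have hfs : CSALib.HasFactorSet M K' (M ⊗[E] D)
      (fun σ τ => algebraMap F K' (cF (rF₀ σ) (rF₀ τ))) := by
    refine ⟨𝒢.n, g', fun (σ : K' ≃ₐ[M] K') => Units.map JK.toRingHom.toMonoidHom (𝒢.w (rN σ)), 𝒢.n_ne, ?_, ?_, ?_⟩
    · rw [Module.finrank_baseChange, 𝒢.finrank_eq]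
    · intro σ a
      show g' a * JK (𝒢.w (rN σ)) = JK (𝒢.w (rN σ)) * (g' a).map σ
      induction a using TensorProduct.induction_on with
      | zero => rw [map_zero, zero_mul, Matrix.map_zero _ (map_zero σ), mul_zero]
      | tmul m d =>
        have e : g' (m ⊗ₜ d) = m • JK (𝒢.g d) := by
          simp [g', Algebra.smul_def]
        rw [e, show (m • JK (𝒢.g d)).map σ = m • (JK (𝒢.g d)).map σ from by
          ext i j : 1; exact σ.toLinearMap.map_smul m (JK (𝒢.g d) i j), hJK, smul_mul_assoc, mul_smul_comm, ← map_mul,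
          ← map_mul, 𝒢.g_w]
      | add x y hx hy => rw [map_add, Matrix.map_add _ (map_add σ), add_mul, mul_add, hx, hy]
    · intro σ τ
      show JK (𝒢.w (rN σ)) * (JK (𝒢.w (rN τ))).map σ = _ • JK (𝒢.w (rN (σ * τ)))
      rw [hJK, ← map_mul, 𝒢.w_mul, hrNmul]
      ext i j : 1
      simp only [JK, AlgHom.mapMatrix_apply, Matrix.map_apply, Matrix.smul_apply, smul_eq_mul, map_mul]
      congr 1
      have e1 : θ (rF₀ σ) = rN σ := hθ σ _ (hrF₀ σ)
      have e2 : θ (rF₀ τ) = rN τ := hθ τ _ (hrF₀ τ)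
      apply Subtype.ext
      simp only [cF, e1, e2]
      change ι (algebraMap K 𝒢.N _) = algebraMap L₀ Ω _
      rw [hk, IsScalarTower.algebraMap_apply K E 𝒢.N, hι, ← IsScalarTower.algebraMap_apply K E M]
  let f' : (K' ≃ₐ[M] K') → K'ˣ := fun (σ : K' ≃ₐ[M] K') =>
    Units.map (algebraMap F K').toMonoidHom (f (rF₀ σ))
  have hf' : ∀ σ τ : K' ≃ₐ[M] K', (f' σ : K') * σ (f' τ : K') =
      algebraMap F K' (cF (rF₀ σ) (rF₀ τ)) * f' (σ * τ) := by
    intro σ τ
    show algebraMap F K' (f (rF₀ σ)) * σ (algebraMap F K' (f (rF₀ τ))) = _ * algebraMap F K' (f (rF₀ (σ * τ)))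
    rw [hrF, ← map_mul, ← map_mul]
    apply congrArg (algebraMap F K')
    rw [hrF₀app, hrF₀mul σ τ]
    exact hf (rF₀ σ) (rF₀ τ)
  have hsim := CSALib.similar_of_coboundary (c := fun σ τ => algebraMap F K' (cF (rF₀ σ) (rF₀ τ))) hfs f' hf'
  obtain ⟨n, -, hn⟩ := CSALib.similar_field_iff.1 hsim
  exact ⟨n, hn⟩

end H9EdBr
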